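import Cfsg.Agent.Lib.SpinAlt.Decomp
import Cfsg.Agent.Lib.AltPres.Carmichael

/-!
# Commutators in the double cover of an alternating group
-/

set_option autoImplicit false
set_option linter.unusedSectionVars false
set_option linter.style.haveILetI false

open scoped commutatorElement

namespace CfsgLib.SpinAlt

open Equiv Equiv.Perm

variable {α : Type*} [Fintype α] [DecidableEq α]

/-- The three-cycles `(a i)(a b)` generate the alternating group. -/
theorem alt_le_closure {a b : α} (hab : a ≠ b) :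
    alternatingGroup α ≤ Subgroup.closure
      {g : Perm α | ∃ i, i ≠ a ∧ i ≠ b ∧ g = swap a i * swap a b} := by
  set K := Subgroup.closure {g : Perm α | ∃ i, i ≠ a ∧ i ≠ b ∧ g = swap a i * swap a b}
  have hb : ∀ i, i ≠ a → swap a i * swap a b ∈ K := by
    intro i hia
    rcases eq_or_ne i b with rfl | hib
    · rw [swap_mul_self]; exact one_mem K
    exact Subgroup.subset_closure ⟨i, hia, hib, rfl⟩
  let C : Perm α → Prop := fun g =>
    (g ∈ K ∧ Equiv.Perm.sign g = 1) ∨ (g * swap a b ∈ K ∧ Equiv.Perm.sign g = -1)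
  have step : ∀ g i, i ≠ a → C g → C (g * swap a i) := by
    intro g i hi hg
    rcases hg with ⟨hg, hs⟩ | ⟨hg, hs⟩
    · exact Or.inr ⟨by rw [mul_assoc]; exact mul_mem hg (hb i hi),
        by rw [map_mul, hs, sign_swap hi.symm, one_mul]⟩
    · refine Or.inl ⟨?_, by rw [map_mul, hs, sign_swap hi.symm]; rfl⟩
      have h := mul_mem hg (inv_mem (hb i hi))
      rwa [mul_inv_rev, swap_inv, swap_inv, mul_assoc, swap_mul_self_mul] at h
  have hall : ∀ g : Perm α, C g := by
    intro g
    induction g using Equiv.Perm.swap_induction_on' with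
    | one => exact Or.inl ⟨one_mem K, map_one _⟩
    | mul_swap f x y hxy hf =>
      rcases eq_or_ne x a with rfl | hx
      · exact step f y hxy.symm hf
      rcases eq_or_ne y a with rfl | hy
      · rw [swap_comm]; exact step f x hxy hf
      have e : swap x y = swap a x * swap a y * swap a x := by
        have := hx.symm; have := hy.symm; have := hxy.symm
        apply Equiv.ext
        intro z
        simp only [Equiv.Perm.mul_apply]
        rcases eq_or_ne z a with rfl | za
        · simp [swap_apply_of_ne_of_ne, *]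
        rcases eq_or_ne z x with rfl | zx
        · simp [swap_apply_of_ne_of_ne, *]
        rcases eq_or_ne z y with rfl | zy
        · simp [swap_apply_of_ne_of_ne, *]
        simp [swap_apply_of_ne_of_ne, *]
      rw [e, ← mul_assoc, ← mul_assoc]
      exact step _ x hx (step _ y hy (step f x hx hf))
  intro g hg
  rw [mem_alternatingGroup] at hg
  rcases hall g with ⟨h, -⟩ | ⟨-, h⟩
  · exact h
  · rw [hg] at h; exact absurd h (by decide)

/-- A perfect central extension of order two of the alternating group. -/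
structure Cover {G : Type*} [Group G] (π : G →* Perm α) : Prop where
  five : 5 ≤ Fintype.card α
  range : π.range = alternatingGroup α
  central : π.ker ≤ Subgroup.center G
  card : Nat.card π.ker = 2
  perfect : commutator G = ⊤

/-- A product of two disjoint transpositions. -/
def IsDouble (d : Perm α) : Prop :=
  ∃ a b c e : α, a ≠ b ∧ c ≠ e ∧ a ≠ c ∧ a ≠ e ∧ b ≠ c ∧ b ≠ e ∧ d = swap a b * swap c e

theorem IsDouble.mem_alt {d : Perm α} (hd : IsDouble d) : d ∈ alternatingGroup α := by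
  obtain ⟨a, b, c, e, hab, hce, -, -, -, -, rfl⟩ := hd
  rw [mem_alternatingGroup, map_mul, sign_swap hab, sign_swap hce]
  rfl

theorem IsDouble.cycleType {d : Perm α} (hd : IsDouble d) : d.cycleType = {2, 2} := by
  obtain ⟨a, b, c, e, hab, hce, hac, hae, hbc, hbe, rfl⟩ := hd
  have dd : (swap a b).Disjoint (swap c e) := fun z => by
    simp only [swap_apply_def]; split_ifs <;> simp_all
  rw [dd.cycleType_mul, (Equiv.Perm.IsSwap.isCycle ⟨a, b, hab, rfl⟩).cycleType, support_swap hab,
    (Equiv.Perm.IsSwap.isCycle ⟨c, e, hce, rfl⟩).cycleType, support_swap hce]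
  simp [hab, hce]

/-- The product of two double transpositions on four points, in both orders. -/
theorem four_points {a b c e : α} (hab : a ≠ b) (hce : c ≠ e) (hac : a ≠ c) (hae : a ≠ e)
    (hbc : b ≠ c) (hbe : b ≠ e) :
    swap a b * swap c e * (swap a c * swap b e) = swap a e * swap b c ∧
      swap a c * swap b e * (swap a b * swap c e) = swap a e * swap b c := by
  have := hab.symm; have := hce.symm; have := hac.symm; have := hae.symm
  have := (Ne.symm hbc); have := hbe.symm
  constructor <;>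
  · apply Equiv.ext
    intro z
    simp only [Equiv.Perm.mul_apply]
    rcases eq_or_ne z a with rfl | za
    · simp [swap_apply_of_ne_of_ne, *]
    rcases eq_or_ne z b with rfl | zb
    · simp [swap_apply_of_ne_of_ne, *]
    rcases eq_or_ne z c with rfl | zc
    · simp [swap_apply_of_ne_of_ne, *]
    rcases eq_or_ne z e with rfl | ze
    · simp [swap_apply_of_ne_of_ne, *]
    simp [swap_apply_of_ne_of_ne, *]

namespace Cover

variable {G : Type*} [Group G] [Finite G] {π : G →* Perm α}

theorem exists_lift (h : Cover π) {s : Perm α} (hs : s ∈ alternatingGroup α) : ∃ g, π g = s := by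
  rw [← h.range] at hs; exact hs

theorem pi_mem (h : Cover π) (g : G) : π g ∈ alternatingGroup α := by
  rw [← h.range]; exact ⟨g, rfl⟩

theorem ker_sq (h : Cover π) {k : G} (hk : k ∈ π.ker) : k * k = 1 := by
  have h1 := orderOf_dvd_natCard (⟨k, hk⟩ : π.ker)
  rw [h.card, orderOf_dvd_iff_pow_eq_one, pow_two] at h1
  exact congrArg Subtype.val h1

theorem ker_comm (h : Cover π) {k : G} (hk : k ∈ π.ker) (g : G) : g * k = k * g :=
  Subgroup.mem_center_iff.mp (h.central hk) g

theorem eq_of_ne_one (h : Cover π) {k l : G} (hk : k ∈ π.ker) (hl : l ∈ π.ker) (hk1 : k ≠ 1)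
    (hl1 : l ≠ 1) : k = l := by
  obtain ⟨x, hx, hu⟩ := Nat.card_eq_two_iff' (1 : π.ker) |>.mp h.card
  have e1 := hu ⟨k, hk⟩ fun e => hk1 (congrArg Subtype.val e)
  have e2 := hu ⟨l, hl⟩ fun e => hl1 (congrArg Subtype.val e)
  exact congrArg Subtype.val (e1.trans e2.symm)

theorem exists_lift_three (h : Cover π) {t : Perm α} (ht : t.IsThreeCycle) :
    ∃ y, π y = t ∧ y * y * y = 1 := by
  obtain ⟨g, hg⟩ := h.exists_lift ht.mem_alternatingGroup
  have ht3 : t ^ 3 = 1 := by rw [← ht.orderOf, pow_orderOf_eq_one]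
  have hk : g ^ 3 ∈ π.ker := by rw [MonoidHom.mem_ker, map_pow, hg, ht3]
  have h6 : g ^ 6 = 1 := by rw [show 6 = 3 + 3 by rfl, pow_add]; exact h.ker_sq hk
  refine ⟨g ^ 4, ?_, ?_⟩
  · rw [map_pow, hg, show 4 = 3 + 1 by rfl, pow_add, ht3, one_mul, pow_one]
  · rw [← pow_add, ← pow_add, show 4 + 4 + 4 = 6 + 6 by rfl, pow_add, h6, one_mul]

theorem exists_sq_ne_one (h : Cover π) : ∃ g : G, IsDouble (π g) ∧ g * g ≠ 1 := by
  classical
  by_contra hno
  push Not at hno
  have h5 := h.five
  obtain ⟨a, b, hab⟩ := Fintype.exists_pair_of_one_lt_card (α := α) (by omega)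
  let ι := {i : α // i ≠ a ∧ i ≠ b}
  have hcyc : ∀ i : ι, (swap a (i : α) * swap a b).IsThreeCycle := fun i =>
    isThreeCycle_swap_mul_swap_same (Ne.symm i.2.1) hab (Ne.symm i.2.2 |>.symm)
  choose y hy hy3 using fun i : ι => h.exists_lift_three (hcyc i)
  have h2 : ∀ i j : ι, i ≠ j → y i * y j * (y i * y j) = 1 := fun i j hij => by
    refine hno _ ?_
    rw [map_mul, hy, hy]
    have hij' : (i : α) ≠ j := fun e => hij (Subtype.ext e)
    refine ⟨a, i, b, j, Ne.symm i.2.1, Ne.symm j.2.2, hab, Ne.symm j.2.1, i.2.2, hij', ?_⟩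
    have e : swap a b * swap a (j : α) * swap a b = swap b (j : α) := by
      rw [Equiv.mul_swap_eq_swap_mul (swap a b) a (j : α), swap_apply_left, swap_apply_of_ne_of_ne j.2.1 j.2.2, mul_assoc,
        swap_mul_self, mul_one]
    rw [← e]
    simp [mul_assoc]
  obtain ⟨hfin, hcard⟩ := CfsgLib.AltPres.carmichael_card hy3 h2 Finset.univ
  set H := Subgroup.closure (y '' ((Finset.univ : Finset ι) : Set ι))
  have hι : (Finset.univ : Finset ι).card + 2 = Fintype.card α := by
    rw [Finset.card_univ, Fintype.card_subtype]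
    have e : (Finset.univ.filter fun i => i ≠ a ∧ i ≠ b) = (Finset.univ.erase a).erase b := by
      ext i; simp [and_comm]
    rw [e, Finset.card_erase_of_mem (Finset.mem_erase.mpr ⟨hab.symm, Finset.mem_univ b⟩),
      Finset.card_erase_of_mem (Finset.mem_univ a), Finset.card_univ]
    omega
  rw [hι] at hcard
  haveI : Nontrivial α := ⟨a, b, hab⟩
  have hA : 2 * Nat.card (alternatingGroup α) = (Fintype.card α).factorial := by
    rw [two_mul_nat_card_alternatingGroup, Nat.card_perm, Nat.card_eq_fintype_card]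
  have hmap : alternatingGroup α ≤ H.map π := by
    refine (alt_le_closure hab).trans ((Subgroup.closure_le _).mpr ?_)
    rintro _ ⟨i, hi1, hi2, rfl⟩
    exact ⟨y ⟨i, hi1, hi2⟩, Subgroup.subset_closure ⟨_, Finset.mem_coe.mpr (Finset.mem_univ _), rfl⟩, hy _⟩
  have hle : commutator G ≤ H := by
    rw [commutator_def, Subgroup.commutator_le]
    intro g₁ _ g₂ _
    obtain ⟨a₁, ha₁, e₁⟩ := hmap (h.pi_mem g₁)
    obtain ⟨a₂, ha₂, e₂⟩ := hmap (h.pi_mem g₂)
    have k₁ : a₁⁻¹ * g₁ ∈ π.ker := by rw [MonoidHom.mem_ker, map_mul, map_inv, e₁, inv_mul_cancel]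
    have k₂ : a₂⁻¹ * g₂ ∈ π.ker := by rw [MonoidHom.mem_ker, map_mul, map_inv, e₂, inv_mul_cancel]
    have c₁ := Subgroup.mem_center_iff.mp (h.central k₁)
    have c₂ := Subgroup.mem_center_iff.mp (h.central k₂)
    have e : (⁅g₁, g₂⁆ : G) = ⁅a₁, a₂⁆ := by
      calc ⁅g₁, g₂⁆ = ⁅a₁ * (a₁⁻¹ * g₁), a₂ * (a₂⁻¹ * g₂)⁆ := by group
        _ = _ := by
          generalize a₁⁻¹ * g₁ = k at *
          generalize a₂⁻¹ * g₂ = l at *
          simp only [commutatorElement_def, mul_inv_rev]
          calc a₁ * k * (a₂ * l) * (k⁻¹ * a₁⁻¹) * (l⁻¹ * a₂⁻¹)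
              = a₁ * (k * (a₂ * l)) * (k⁻¹ * a₁⁻¹) * (l⁻¹ * a₂⁻¹) := by group
            _ = a₁ * ((a₂ * l) * k) * (k⁻¹ * a₁⁻¹) * (l⁻¹ * a₂⁻¹) := by rw [c₁]
            _ = a₁ * a₂ * (l * a₁⁻¹) * l⁻¹ * a₂⁻¹ := by group
            _ = a₁ * a₂ * (a₁⁻¹ * l) * l⁻¹ * a₂⁻¹ := by rw [c₂]
            _ = _ := by group
    rw [e, commutatorElement_def]
    exact mul_mem (mul_mem (mul_mem ha₁ ha₂) (inv_mem ha₁)) (inv_mem ha₂)
  rw [h.perfect, top_le_iff] at hle
  rw [hle, Nat.card_congr Subgroup.topEquiv.toEquiv] at hcard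
  have hG : Nat.card G = 2 * Nat.card (alternatingGroup α) := by
    have := Subgroup.card_eq_card_quotient_mul_card_subgroup π.ker
    rw [h.card, Nat.card_congr (QuotientGroup.quotientKerEquivRange π).toEquiv, h.range] at this
    omega
  have hpos : 0 < Nat.card (alternatingGroup α) := Nat.card_pos
  omega

theorem conj_double (h : Cover π) {d d' : Perm α} (hd : IsDouble d) (hd' : IsDouble d') :
    ∃ g : G, π g * d * (π g)⁻¹ = d' := by
  obtain ⟨g, hg⟩ := isConj_iff.mp (isConj_iff_cycleType_eq.mpr (hd.cycleType.trans hd'.cycleType.symm))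
  obtain ⟨a, b, c, e, hab, hce, hac, hae, hbc, hbe, rfl⟩ := hd
  rcases Int.units_eq_one_or (Equiv.Perm.sign g) with hs | hs
  · obtain ⟨x, hx⟩ := h.exists_lift (mem_alternatingGroup.mpr hs)
    exact ⟨x, by rw [hx, hg]⟩
  · have he : g * swap a b ∈ alternatingGroup α := by
      rw [mem_alternatingGroup, map_mul, hs, sign_swap hab]; rfl
    obtain ⟨x, hx⟩ := h.exists_lift he
    refine ⟨x, ?_⟩
    have hc : swap a b * swap c e = swap c e * swap a b :=
      (show (swap a b).Disjoint (swap c e) from fun z => by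
        simp only [swap_apply_def]; split_ifs <;> simp_all).commute.eq
    rw [hx, mul_inv_rev, swap_inv, ← hg]
    calc g * swap a b * (swap a b * swap c e) * (swap a b * g⁻¹)
        = g * (swap a b * swap a b) * (swap c e * swap a b) * g⁻¹ := by group
      _ = _ := by rw [swap_mul_self, mul_one, ← hc]

theorem sq_ne_one (h : Cover π) {g : G} (hg : IsDouble (π g)) : g * g ≠ 1 := by
  obtain ⟨g₀, hg₀, hne⟩ := h.exists_sq_ne_one
  intro hgg
  apply hne
  obtain ⟨x, hx⟩ := h.conj_double hg hg₀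
  set k := (x * g * x⁻¹)⁻¹ * g₀ with hk
  have hkk : k ∈ π.ker := by
    rw [hk, MonoidHom.mem_ker, map_mul, map_inv, map_mul, map_mul, map_inv, hx, inv_mul_cancel]
  have e : g₀ = x * g * x⁻¹ * k := by rw [hk, mul_inv_cancel_left]
  calc g₀ * g₀ = x * g * x⁻¹ * (k * (x * g * x⁻¹)) * k := by rw [e]; simp [mul_assoc]
    _ = x * (g * g) * x⁻¹ * (k * k) := by rw [← h.ker_comm hkk]; group
    _ = 1 := by rw [hgg, h.ker_sq hkk]; group

theorem not_commute_double (h : Cover π) {a b c e : α} (hab : a ≠ b) (hce : c ≠ e) (hac : a ≠ c)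
    (hae : a ≠ e) (hbc : b ≠ c) (hbe : b ≠ e) {x y : G} (hx : π x = swap a b * swap c e)
    (hy : π y = swap a c * swap b e) : y * x ≠ x * y := by
  intro hcomm
  have dx : IsDouble (π x) := ⟨a, b, c, e, hab, hce, hac, hae, hbc, hbe, hx⟩
  have dy : IsDouble (π y) := ⟨a, c, b, e, hac, hbe, hab, hae, (Ne.symm hbc), hce, hy⟩
  have dxy : IsDouble (π (x * y)) := by
    refine ⟨a, e, b, c, hae, hbc, hab, hac, hbe.symm, hce.symm, ?_⟩
    rw [map_mul, hx, hy]
    exact (four_points hab hce hac hae hbc hbe).1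
  have kx : x * x ∈ π.ker := by
    rw [MonoidHom.mem_ker, map_mul, hx, ← pow_two]
    have := (IsDouble.cycleType ⟨a, b, c, e, hab, hce, hac, hae, hbc, hbe, rfl⟩ :
      (swap a b * swap c e).cycleType = {2, 2})
    rw [← orderOf_dvd_iff_pow_eq_one, ← lcm_cycleType, this]
    decide
  have ky : y * y ∈ π.ker := by
    rw [MonoidHom.mem_ker, map_mul, hy, ← pow_two]
    have := (IsDouble.cycleType ⟨a, c, b, e, hac, hbe, hab, hae, (Ne.symm hbc), hce, rfl⟩ :
      (swap a c * swap b e).cycleType = {2, 2})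
    rw [← orderOf_dvd_iff_pow_eq_one, ← lcm_cycleType, this]
    decide
  have heq := h.eq_of_ne_one kx ky (h.sq_ne_one dx) (h.sq_ne_one dy)
  apply h.sq_ne_one dxy
  calc x * y * (x * y) = x * (y * x) * y := by group
    _ = (x * x) * (y * y) := by rw [hcomm]; group
    _ = 1 := by rw [heq, h.ker_sq ky]

theorem commute_disjoint (h : Cover π) {S : Finset α} {c : G} (hc : (π c).support ⊆ S) {r : G}
    (hr : _root_.Disjoint (π r).support S) : c * r = r * c := by
  classical
  have hfix : ∀ v, π r v ≠ v → v ∉ S := fun v hv =>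
    Finset.disjoint_left.mp hr (mem_support.mpr hv)
  have hiff : ∀ v, π r v ∉ S ↔ v ∉ S := fun v => by
    by_cases hv : π r v = v
    · rw [hv]
    · exact iff_of_true (hfix _ fun e => hv ((π r).injective e)) (hfix v hv)
  have hmem : π r ∈ (alternatingGroup {v : α // v ∉ S}).map (Equiv.Perm.ofSubtype) := by
    refine ⟨(π r).subtypePerm hiff, ?_, Equiv.Perm.ofSubtype_subtypePerm hiff hfix⟩
    rw [SetLike.mem_coe, mem_alternatingGroup, ← Equiv.Perm.sign_ofSubtype,
      Equiv.Perm.ofSubtype_subtypePerm hiff hfix]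
    exact mem_alternatingGroup.mp (h.pi_mem r)
  rw [← closure_three_cycles_eq_alternating, MonoidHom.map_closure] at hmem
  have hle : Subgroup.closure (Equiv.Perm.ofSubtype '' {t : Perm {v : α // v ∉ S} | t.IsThreeCycle}) ≤
      (Subgroup.centralizer ({c} : Set G)).map π := by
    rw [Subgroup.closure_le]
    rintro _ ⟨t, ht, rfl⟩
    have ht' : (Equiv.Perm.ofSubtype t).IsThreeCycle := by
      show (Equiv.Perm.ofSubtype t).cycleType = {3}
      rw [Equiv.Perm.cycleType_ofSubtype]; exact ht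
    obtain ⟨u, hu, hu3⟩ := h.exists_lift_three ht'
    refine ⟨u, Subgroup.mem_centralizer_singleton_iff.mpr ?_, hu⟩
    have hd : (π c).Disjoint (π u) := fun v => by
      by_cases hv : v ∈ S
      · exact Or.inr (by rw [hu]; exact Equiv.Perm.ofSubtype_apply_of_not_mem t (not_not.mpr hv))
      · exact Or.inl (notMem_support.mp fun e => hv (hc e))
    set k := c * u * c⁻¹ * u⁻¹ with hk
    have hkk : k ∈ π.ker := by
      rw [hk, MonoidHom.mem_ker, map_mul, map_mul, map_mul, map_inv, map_inv, hd.commute.eq]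
      group
    have e : c * u * c⁻¹ = k * u := by rw [hk]; group
    have e3 : (k * u) * (k * u) * (k * u) = 1 := by
      rw [← e]
      calc c * u * c⁻¹ * (c * u * c⁻¹) * (c * u * c⁻¹) = c * (u * u * u) * c⁻¹ := by group
        _ = 1 := by rw [hu3]; group
    have e1 : (k * u) * (k * u) * (k * u) = k * k * k * (u * u * u) := by
      have hku := h.ker_comm hkk
      calc k * u * (k * u) * (k * u) = k * (u * k) * u * (k * u) := by group
        _ = k * (k * u) * u * (k * u) := by rw [hku u]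
        _ = k * k * (u * u * k) * u := by group
        _ = k * k * (k * (u * u)) * u := by rw [hku (u * u)]
        _ = _ := by group
    rw [e1, hu3, h.ker_sq hkk, mul_one, one_mul] at e3
    rw [e3, one_mul] at e
    exact (mul_inv_eq_iff_eq_mul.mp e).symm
  obtain ⟨u, hu, he⟩ := hle hmem
  have hk : u⁻¹ * r ∈ π.ker := by rw [MonoidHom.mem_ker, map_mul, map_inv, he, inv_mul_cancel]
  have hcu := Subgroup.mem_centralizer_singleton_iff.mp hu
  calc c * r = (c * u) * (u⁻¹ * r) := by group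
    _ = (u * c) * (u⁻¹ * r) := by rw [hcu]
    _ = u * ((u⁻¹ * r) * c) := by rw [mul_assoc, h.ker_comm hk c]
    _ = r * c := by group

/-- Every element is a commutator. -/
theorem exists_commutator (h : Cover π) (v : G) : ∃ a b : G, a * b * a⁻¹ * b⁻¹ = v := by
  classical
  by_cases hv : π v = 1
  · by_cases hv1 : v = 1
    · exact ⟨1, 1, by rw [hv1]; group⟩
    obtain ⟨g₀, hg₀, -⟩ := h.exists_sq_ne_one
    obtain ⟨a, b, c, e, hab, hce, hac, hae, hbc, hbe, hx⟩ := hg₀
    obtain ⟨y, hy⟩ := h.exists_lift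
      (IsDouble.mem_alt ⟨a, c, b, e, hac, hbe, hab, hae, (Ne.symm hbc), hce, rfl⟩)
    have hne := h.not_commute_double hab hce hac hae hbc hbe hx hy
    refine ⟨y, g₀, h.eq_of_ne_one ?_ (by rwa [MonoidHom.mem_ker]) (fun e' => hne ?_) hv1⟩
    · obtain ⟨f1, f2⟩ := four_points hab hce hac hae hbc hbe
      rw [MonoidHom.mem_ker, map_mul, map_mul, map_mul, map_inv, map_inv, mul_assoc _ (π y)⁻¹,
        ← mul_inv_rev, hx, hy, f1, f2, mul_inv_cancel]
    · calc y * g₀ = (y * g₀ * y⁻¹ * g₀⁻¹) * g₀ * y := by group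
        _ = _ := by rw [e', one_mul]
  obtain ⟨x, y, t, r, hxy, tx, ty, ht2, hte⟩ :=
    exists_flex h.five (mem_alternatingGroup.mp (h.pi_mem v)) hv
  have hx2 : 2 ∈ x.cycleType := by
    rw [tx, typ, Multiset.mem_add]; exact Or.inl (Multiset.mem_replicate.mpr ⟨by omega, rfl⟩)
  obtain ⟨c₁, ρ, rfl, hd, hc₁, hc₁k, htc⟩ := split hx2
  have hρ2 : 2 ∈ ρ.cycleType := by
    obtain ⟨l, rfl⟩ : ∃ l, t = l + 2 := ⟨t - 2, by omega⟩
    rw [tx, typ, Multiset.replicate_succ, Multiset.cons_add, Multiset.cons_inj_right] at htc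
    rw [← htc, Multiset.mem_add]
    exact Or.inl (Multiset.mem_replicate.mpr ⟨by omega, rfl⟩)
  obtain ⟨c₂, τ, rfl, hd₂, hc₂, hc₂k, -⟩ := split hρ2
  obtain ⟨a, b, hab, rfl⟩ := card_support_eq_two.mp hc₁k
  obtain ⟨c, e, hce, rfl⟩ := card_support_eq_two.mp hc₂k
  have hd' := Equiv.Perm.disjoint_iff_disjoint_support.mp hd
  rw [hd₂.support_mul, support_swap hab, support_swap hce] at hd'
  have hd₂' := Equiv.Perm.disjoint_iff_disjoint_support.mp hd₂
  rw [support_swap hce] at hd₂'
  simp only [Finset.disjoint_insert_left, Finset.disjoint_singleton_left, Finset.mem_union,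
    Finset.mem_insert, Finset.mem_singleton, not_or] at hd' hd₂'
  obtain ⟨⟨⟨hac, hae⟩, haτ⟩, ⟨hbc, hbe⟩, hbτ⟩ := hd'
  obtain ⟨hcτ, heτ⟩ := hd₂'
  have hxA : swap a b * (swap c e * τ) ∈ alternatingGroup α := by
    rw [mem_alternatingGroup, sign_of_cycleType, tx, typ]
    obtain ⟨l, rfl⟩ := hte
    simp only [Multiset.sum_add, Multiset.sum_replicate, Multiset.card_add,
      Multiset.card_replicate, smul_eq_mul]
    exact Even.neg_one_pow ⟨3 * l + 2 * r, by ring⟩
  have hτA : τ ∈ alternatingGroup α := by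
    rw [mem_alternatingGroup, map_mul, map_mul, sign_swap hab, sign_swap hce] at hxA
    rw [mem_alternatingGroup]
    simpa using hxA
  have dAB : IsDouble (swap a b * swap c e) := ⟨a, b, c, e, hab, hce, hac, hae, hbc, hbe, rfl⟩
  obtain ⟨X, hX⟩ := h.exists_lift dAB.mem_alt
  obtain ⟨C, hC⟩ := h.exists_lift
    (IsDouble.mem_alt ⟨a, c, b, e, hac, hbe, hab, hae, (Ne.symm hbc), hce, rfl⟩)
  obtain ⟨T, hT⟩ := h.exists_lift hτA
  have hnc := h.not_commute_double hab hce hac hae hbc hbe hX hC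
  have hCT : C * T = T * C := h.commute_disjoint (S := {a, b, c, e}) (by
    rw [hC]
    intro z hz
    rw [mem_support] at hz
    simp only [Equiv.Perm.mul_apply, swap_apply_def] at hz
    simp only [Finset.mem_insert, Finset.mem_singleton]
    split_ifs at hz <;> simp_all) (by
    rw [hT, Finset.disjoint_right]
    intro z hz
    simp only [Finset.mem_insert, Finset.mem_singleton] at hz
    rcases hz with rfl | rfl | rfl | rfl <;> assumption)
  set A := X * T
  have hA : π A = swap a b * (swap c e * τ) := by rw [map_mul, hX, hT, mul_assoc]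
  -- an even conjugator
  obtain ⟨g, hg⟩ := isConj_iff.mp (isConj_iff_cycleType_eq.mpr
    (show (π A)⁻¹.cycleType = y.cycleType by rw [cycleType_inv, hA, tx, ty]))
  obtain ⟨B, hB⟩ : ∃ B : G, π B * (π A)⁻¹ * (π B)⁻¹ = y := by
    rcases Int.units_eq_one_or (Equiv.Perm.sign g) with hs | hs
    · obtain ⟨B, hB⟩ := h.exists_lift (mem_alternatingGroup.mpr hs)
      exact ⟨B, by rw [hB, hg]⟩
    · have hge : g * swap a b ∈ alternatingGroup α := by
        rw [mem_alternatingGroup, map_mul, hs, sign_swap hab]; rfl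
      obtain ⟨B, hB⟩ := h.exists_lift hge
      refine ⟨B, ?_⟩
      have hcA : Commute (swap a b) (π A)⁻¹ := by
        rw [hA]
        exact ((Commute.refl _).mul_right hd.commute).inv_right
      rw [hB, mul_inv_rev, swap_inv, ← hg]
      calc g * swap a b * (π A)⁻¹ * (swap a b * g⁻¹)
          = g * ((swap a b * (π A)⁻¹) * swap a b) * g⁻¹ := by group
        _ = g * ((π A)⁻¹ * (swap a b * swap a b)) * g⁻¹ := by rw [hcA.eq, mul_assoc (π A)⁻¹]
        _ = _ := by rw [swap_mul_self, mul_one]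
  set w := A * B * A⁻¹ * B⁻¹ with hw
  have hπw : π w = π v := by
    rw [← hxy, ← hA, ← hB, hw, map_mul, map_mul, map_mul, map_inv, map_inv]
    group
  by_cases hvw : v = w
  · exact ⟨A, B, hvw.symm⟩
  refine ⟨A, B * C, ?_⟩
  set z := C * A⁻¹ * C⁻¹ * A with hz
  have hzk : z ∈ π.ker := by
    have hcA : π C * π A = π A * π C := by
      have hsq : π C * (swap a b * swap c e) = (swap a b * swap c e) * π C := by
        obtain ⟨f1, f2⟩ := four_points hab hce hac hae hbc hbe
        rw [hC, f1, f2]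
      have hct : π C * π T = π T * π C := by rw [← map_mul, hCT, map_mul]
      rw [hA, ← mul_assoc (swap a b), ← mul_assoc, hsq, mul_assoc _ (π C), ← hT, hct, ← mul_assoc]
    rw [MonoidHom.mem_ker, map_mul, map_mul, map_mul, map_inv, map_inv]
    calc π C * (π A)⁻¹ * (π C)⁻¹ * π A = π C * (π C * π A)⁻¹ * π A := by group
      _ = π C * (π A * π C)⁻¹ * π A := by rw [hcA]
      _ = 1 := by group
  have hz1 : z ≠ 1 := by
    intro h1
    apply hnc
    have hCA : C * A = A * C := by
      calc C * A = C * A⁻¹⁻¹ := by rw [inv_inv]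
        _ = (C * A⁻¹ * C⁻¹)⁻¹ * C := by group
        _ = (z * A⁻¹)⁻¹ * C := by rw [hz]; group
        _ = A * C := by rw [h1, one_mul, inv_inv]
    calc C * X = C * A * T⁻¹ := by simp [A, mul_assoc]
      _ = A * C * T⁻¹ := by rw [hCA]
      _ = X * (T * C) * T⁻¹ := by simp [A, mul_assoc]
      _ = X * C := by rw [← hCT]; group
  have hval : A * (B * C) * A⁻¹ * (B * C)⁻¹ = w * z := by
    calc A * (B * C) * A⁻¹ * (B * C)⁻¹ = A * B * (C * A⁻¹ * C⁻¹ * A) * A⁻¹ * B⁻¹ := by group
      _ = A * B * (z * (A⁻¹ * B⁻¹)) := by rw [← hz]; group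
      _ = A * B * ((A⁻¹ * B⁻¹) * z) := by rw [← h.ker_comm hzk]
      _ = w * z := by rw [hw]; group
  rw [hval]
  have hvk : w⁻¹ * v ∈ π.ker := by rw [MonoidHom.mem_ker, map_mul, map_inv, hπw, inv_mul_cancel]
  have hne : w⁻¹ * v ≠ 1 := fun e => hvw (inv_mul_eq_one.mp e).symm
  rw [h.eq_of_ne_one hzk hvk hz1 hne, mul_inv_cancel_left]

end Cover

end CfsgLib.SpinAlt
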