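import Cfsg.Agent.Lib.SpinAlt.Refl

/-!
# Even permutations as products of two conjugates of a flexible element

An element is flexible if it is a product of an even positive number of disjoint transpositions and
possibly a disjoint three-cycle.
-/

set_option autoImplicit false
set_option linter.unusedSectionVars false
set_option linter.style.haveILetI false

namespace CfsgLib.SpinAlt

open Equiv Equiv.Perm

variable {α : Type*} [Fintype α] [DecidableEq α]

/-- The cycle type with `t` transpositions and `r` three-cycles. -/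
def typ (t r : ℕ) : Multiset ℕ := Multiset.replicate t 2 + Multiset.replicate r 3

theorem typ_add (t r t' r' : ℕ) : typ t r + typ t' r' = typ (t + t') (r + r') := by
  simp [typ, Multiset.replicate_add, add_add_add_comm]

/-- `σ = x * y` inside its support with prescribed cycle types. -/
def Dec (σ : Perm α) (t₁ t₂ r : ℕ) : Prop :=
  ∃ x y : Perm α, x * y = σ ∧ x.support ⊆ σ.support ∧ y.support ⊆ σ.support ∧
    x.cycleType = typ t₁ r ∧ y.cycleType = typ t₂ r

/-- The goal: two conjugates of one flexible element. -/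
def Flex (σ : Perm α) : Prop :=
  ∃ (x y : Perm α) (t r : ℕ), x * y = σ ∧ x.cycleType = typ t r ∧ y.cycleType = typ t r ∧
    2 ≤ t ∧ Even t

theorem Dec.mul {σ τ : Perm α} {a b c a' b' c' : ℕ} (hd : σ.Disjoint τ) (h : Dec σ a b c)
    (h' : Dec τ a' b' c') : Dec (σ * τ) (a + a') (b + b') (c + c') := by
  obtain ⟨x, y, hxy, hx, hy, tx, ty⟩ := h
  obtain ⟨x', y', hxy', hx', hy', tx', ty'⟩ := h'
  have hd' := Equiv.Perm.disjoint_iff_disjoint_support.mp hd
  have dx : x.Disjoint x' := Equiv.Perm.disjoint_iff_disjoint_support.mpr (hd'.mono hx hx')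
  have dy : y.Disjoint y' := Equiv.Perm.disjoint_iff_disjoint_support.mpr (hd'.mono hy hy')
  have dyx : y.Disjoint x' := Equiv.Perm.disjoint_iff_disjoint_support.mpr (hd'.mono hy hx')
  refine ⟨x * x', y * y', ?_, ?_, ?_, ?_, ?_⟩
  · rw [mul_assoc, ← mul_assoc x', ← dyx.commute.eq, mul_assoc y, hxy', ← mul_assoc, hxy]
  · rw [dx.support_mul, hd.support_mul]; exact Finset.union_subset_union hx hx'
  · rw [dy.support_mul, hd.support_mul]; exact Finset.union_subset_union hy hy'
  · rw [dx.cycleType_mul, tx, tx', typ_add]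
  · rw [dy.cycleType_mul, ty, ty', typ_add]

theorem Dec.one : Dec (1 : Perm α) 0 0 0 :=
  ⟨1, 1, mul_one 1, by simp, by simp, by simp [typ], by simp [typ]⟩

theorem Dec.eq_one {σ : Perm α} (h : Dec σ 0 0 0) : σ = 1 := by
  obtain ⟨x, y, hxy, -, -, tx, ty⟩ := h
  have hx : x = 1 := Equiv.Perm.cycleType_eq_zero.mp (by simpa [typ] using tx)
  have hy : y = 1 := Equiv.Perm.cycleType_eq_zero.mp (by simpa [typ] using ty)
  rw [← hxy, hx, hy, one_mul]

theorem Dec.of_cycleType {σ σ' : Perm α} {a b c : ℕ} (h : Dec σ a b c)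
    (he : σ.cycleType = σ'.cycleType) : Dec σ' a b c := by
  obtain ⟨g, hg⟩ := isConj_iff.mp (Equiv.Perm.isConj_iff_cycleType_eq.mpr he)
  obtain ⟨x, y, hxy, hx, hy, tx, ty⟩ := h
  have hs : ∀ z : Perm α, z.support ⊆ σ.support → (g * z * g⁻¹).support ⊆ σ'.support := fun z hz => by
    rw [← hg, support_conj, support_conj]
    exact Finset.map_subset_map.mpr hz
  refine ⟨g * x * g⁻¹, g * y * g⁻¹, ?_, hs x hx, hs y hy, ?_, ?_⟩
  · rw [← hg, ← hxy]; group
  · rw [cycleType_conj, tx]
  · rw [cycleType_conj, ty]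

theorem Dec.flex {σ : Perm α} {t r : ℕ} (h : Dec σ t t r) (h2 : 2 ≤ t) (he : Even t) : Flex σ := by
  obtain ⟨x, y, hxy, -, -, tx, ty⟩ := h
  exact ⟨x, y, t, r, hxy, tx, ty, h2, he⟩

theorem Dec.flip {σ : Perm α} {a b : ℕ} (h : Dec σ a b 0) : Dec σ b a 0 := by
  obtain ⟨x, y, hxy, hx, hy, tx, ty⟩ := h
  refine ⟨x * y * x⁻¹, x, by rw [inv_mul_cancel_right, hxy], ?_, hx, ?_, tx⟩
  · intro p hp
    rw [mem_support] at hp ⊢
    intro hfix
    apply hp
    have h1 : x⁻¹ p ∉ σ.support → x⁻¹ p = p := fun h => by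
      have : x (x⁻¹ p) = x⁻¹ p := notMem_support.mp fun h' => h (hx h')
      rw [show x (x⁻¹ p) = p by simp] at this
      exact this.symm
    by_cases hq : x⁻¹ p ∈ σ.support
    · exfalso
      have hxp : x p = p := notMem_support.mp fun h' => mem_support.mp (hx h') hfix
      rw [show x⁻¹ p = p by rw [Equiv.Perm.inv_eq_iff_eq]; exact hxp.symm, mem_support] at hq
      exact hq hfix
    · have hyp : y p = p := notMem_support.mp fun h' => mem_support.mp (hy h') hfix
      rw [Equiv.Perm.mul_apply, Equiv.Perm.mul_apply, h1 hq, hyp, ← h1 hq, show x (x⁻¹ p) = p by simp,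
        h1 hq]
  · rw [cycleType_conj, ty]

/-! ### Single cycles -/

theorem dec_cycle {c : Perm α} (hc : c.IsCycle) :
    (Odd c.support.card → Dec c (c.support.card / 2) (c.support.card / 2) 0) ∧
      (Even c.support.card → Dec c (c.support.card / 2) (c.support.card / 2 - 1) 0 ∧
        Dec c (c.support.card / 2 - 1) (c.support.card / 2) 0) := by
  obtain ⟨x, y, hxy, hx2, hy2, hxs, hys, hodd, heven⟩ := exists_reflection hc
  refine ⟨fun h => ?_, fun h => ?_⟩
  · obtain ⟨u, w, -, -, -, -, -, e1, e2⟩ := hodd h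
    refine ⟨x, y, hxy, hxs, hys, ?_, ?_⟩
    · rw [cycleType_of_mul_self hx2, e1]; rw [typ, Multiset.replicate_zero, add_zero]; obtain ⟨m, hm⟩ := h; congr 1; omega
    · rw [cycleType_of_mul_self hy2, e2]; rw [typ, Multiset.replicate_zero, add_zero]; obtain ⟨m, hm⟩ := h; congr 1; omega
  · obtain ⟨e1, e2⟩ := heven h
    have d : Dec c (c.support.card / 2 - 1) (c.support.card / 2) 0 := by
      refine ⟨x, y, hxy, hxs, hys, ?_, ?_⟩
      · rw [cycleType_of_mul_self hx2, e1, typ, Multiset.replicate_zero, add_zero]; congr 1; omega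
      · rw [cycleType_of_mul_self hy2, e2, typ, Multiset.replicate_zero, add_zero]
    exact ⟨d.flip, d⟩

/-- The gluing step: insert two fixed points and a three-cycle. -/
theorem glue {x y : Perm α} (hx : x * x = 1) (hy : y * y = 1) {S : Finset α} (hxS : x.support ⊆ S)
    (hyS : y.support ⊆ S) {u w p q : α} (hu : x u = u) (hw : y w = w) (huS : u ∈ S) (hwS : w ∈ S)
    (hp : p ∉ S) (hq : q ∉ S) (hpq : p ≠ q) (hne : y u ≠ w) {σ : Perm α}
    (hσ : σ = x * y * swap w q * swap (y u) p) (hsupp : σ.support = insert p (insert q S)) :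
    Dec σ (x.support.card / 2) (y.support.card / 2) 1 := by
  classical
  have hxp : x p = p := notMem_support.mp fun h => hp (hxS h)
  have hxq : x q = q := notMem_support.mp fun h => hq (hxS h)
  have hyp : y p = p := notMem_support.mp fun h => hp (hyS h)
  have hyq : y q = q := notMem_support.mp fun h => hq (hyS h)
  have huw : u ≠ w := fun h => hne (by rw [h, hw])
  have hup : u ≠ p := fun h => hp (h ▸ huS)
  have huq : u ≠ q := fun h => hq (h ▸ huS)
  have hwp : w ≠ p := fun h => hp (h ▸ hwS)
  have hwq : w ≠ q := fun h => hq (h ▸ hwS)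
  have hyinv : y⁻¹ = y := inv_eq_of_mul_eq_one_right hy
  let T1 : Perm α := swap u p * swap p q
  let T2 : Perm α := swap w p * swap p q
  have hT1 : T1.IsThreeCycle := by
    have := Equiv.Perm.isThreeCycle_swap_mul_swap_same (a := p) (b := u) (c := q) hup.symm hpq huq
    rwa [swap_comm p u] at this
  have hT2 : T2.IsThreeCycle := by
    have := Equiv.Perm.isThreeCycle_swap_mul_swap_same (a := p) (b := w) (c := q) hwp.symm hpq hwq
    rwa [swap_comm p w] at this
  have hprod : T1 * T2 = swap w q * swap u p := by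
    apply Equiv.ext
    intro b
    simp only [T1, T2, Equiv.Perm.mul_apply, swap_apply_def]
    split_ifs <;> simp_all
  have d1 : x.Disjoint T1 := fun b => by
    rcases eq_or_ne b u with rfl | h1
    · exact Or.inl hu
    rcases eq_or_ne b p with rfl | h2
    · exact Or.inl hxp
    rcases eq_or_ne b q with rfl | h3
    · exact Or.inl hxq
    · exact Or.inr (by simp only [T1, Equiv.Perm.mul_apply]
                       rw [swap_apply_of_ne_of_ne h2 h3, swap_apply_of_ne_of_ne h1 h2])
  have d2 : y.Disjoint T2 := fun b => by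
    rcases eq_or_ne b w with rfl | h1
    · exact Or.inl hw
    rcases eq_or_ne b p with rfl | h2
    · exact Or.inl hyp
    rcases eq_or_ne b q with rfl | h3
    · exact Or.inl hyq
    · exact Or.inr (by simp only [T2, Equiv.Perm.mul_apply]
                       rw [swap_apply_of_ne_of_ne h2 h3, swap_apply_of_ne_of_ne h1 h2])
  have key : σ = (x * T1) * (y * T2) := by
    rw [d2.commute.eq, mul_assoc, ← mul_assoc T1, hprod, hσ]
    have hyyu : y (y u) = u := by rw [← Equiv.Perm.mul_apply, hy, Equiv.Perm.one_apply]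
    have e : swap w q * swap u p * y = y * (swap w q * swap (y u) p) := by
      rw [← mul_assoc y, Equiv.mul_swap_eq_swap_mul y w q, hw, hyq, mul_assoc (swap w q) y,
        Equiv.mul_swap_eq_swap_mul y (y u) p, hyp, hyyu, ← mul_assoc]
    rw [e]; simp [mul_assoc]
  have hsub : ∀ (v : α) (z : Perm α), v ∈ S → z.support ⊆ S →
      (z * (swap v p * swap p q)).support ⊆ σ.support := by
    intro v z hv hz b hb
    rw [hsupp]
    by_contra hnot
    simp only [Finset.mem_insert, not_or] at hnot
    apply mem_support.mp hb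
    have hbv : b ≠ v := fun h => hnot.2.2 (h ▸ hv)
    rw [Equiv.Perm.mul_apply, Equiv.Perm.mul_apply, swap_apply_of_ne_of_ne hnot.1 hnot.2.1,
      swap_apply_of_ne_of_ne hbv hnot.1]
    exact notMem_support.mp fun h => hnot.2.2 (hz h)
  refine ⟨x * T1, y * T2, key.symm, hsub u x huS hxS, hsub w y hwS hyS, ?_, ?_⟩
  · rw [d1.cycleType_mul, cycleType_of_mul_self hx, hT1.cycleType]; simp [typ]
  · rw [d2.cycleType_mul, cycleType_of_mul_self hy, hT2.cycleType]; simp [typ]

/-- A block: a cycle of odd length (possibly one) with its reflections. -/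
theorem exists_block {S : Finset α} (hS : Odd S.card) :
    ∃ c x y : Perm α, ∃ u w : α, x * y = c ∧ x * x = 1 ∧ y * y = 1 ∧ x.support ⊆ S ∧ y.support ⊆ S ∧
      c.support ⊆ S ∧ u ∈ S ∧ w ∈ S ∧ x u = u ∧ y w = w ∧ (3 ≤ S.card → y u ≠ w) ∧
      x.support.card = S.card - 1 ∧ y.support.card = S.card - 1 ∧
      ∀ v q : α, v ∈ S → q ∉ S →
        (c * swap v q).IsCycle ∧ (c * swap v q).support = insert q S := by
  classical
  obtain ⟨m, hm⟩ := hS
  rcases Nat.eq_zero_or_pos m with rfl | hm0
  · obtain ⟨a, ha⟩ := Finset.card_eq_one.mp (show S.card = 1 by omega)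
    subst ha
    refine ⟨1, 1, 1, a, a, by simp, by simp, by simp, by simp, by simp, by simp, by simp, by simp,
      by simp, by simp, by simp, by simp, by simp, fun v q hv hq => ?_⟩
    rw [Finset.mem_singleton] at hv hq
    subst hv
    rw [one_mul]
    refine ⟨Equiv.Perm.IsSwap.isCycle ⟨v, q, Ne.symm hq, rfl⟩, ?_⟩
    rw [Equiv.Perm.support_swap (Ne.symm hq)]
    exact Finset.pair_comm v q
  · have hnd := S.nodup_toList
    have hlen : 2 ≤ S.toList.length := by rw [Finset.length_toList]; omega
    have hc : S.toList.formPerm.IsCycle := List.isCycle_formPerm hnd hlen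
    have hsupp : S.toList.formPerm.support = S := by
      rw [List.support_formPerm_of_nodup _ hnd fun b h => by rw [h] at hlen; simp at hlen,
        Finset.toList_toFinset]
    obtain ⟨x, y, hxy, hx, hy, hxs, hys, hodd, -⟩ := exists_reflection hc
    rw [hsupp] at hxs hys hodd
    obtain ⟨u, w, hu, hw, hxu, hyw, hne, e1, e2⟩ := hodd ⟨m, hm⟩
    refine ⟨_, x, y, u, w, hxy, hx, hy, hxs, hys, hsupp.subset, hu, hw, hxu, hyw, hne, e1, e2,
      fun v q hv hq => ?_⟩
    obtain ⟨h1, h2⟩ := isCycle_mul_swap hc (w := v) (q := q) (by rw [hsupp]; exact hv) (by rw [hsupp]; exact hq)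
    exact ⟨h1, by rw [h2, hsupp]⟩

/-- An odd cycle of length at least five. -/
theorem dec_odd_glue {c : Perm α} (hc : c.IsCycle) (ho : Odd c.support.card)
    (h5 : 5 ≤ c.support.card) :
    Dec c (c.support.card / 2 - 1) (c.support.card / 2 - 1) 1 := by
  classical
  obtain ⟨m, hm⟩ := ho
  obtain ⟨p, hp⟩ := Finset.card_pos.mp (show 0 < c.support.card by omega)
  obtain ⟨q, hq⟩ := Finset.card_pos.mp (show 0 < (c.support.erase p).card by
    rw [Finset.card_erase_of_mem hp]; omega)
  obtain ⟨hqp, hq'⟩ := Finset.mem_erase.mp hq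
  set S := (c.support.erase p).erase q with hS
  have hcard : S.card = 2 * (m - 1) + 1 := by
    rw [hS, Finset.card_erase_of_mem hq, Finset.card_erase_of_mem hp]; omega
  obtain ⟨c₀, x, y, u, w, hxy, hx, hy, hxs, hys, hcs, hu, hw, hxu, hyw, hne, e1, e2, hins⟩ :=
    exists_block ⟨m - 1, hcard⟩
  have hpS : p ∉ S := fun h => (Finset.mem_erase.mp (Finset.mem_erase.mp h).2).1 rfl
  have hqS : q ∉ S := fun h => (Finset.mem_erase.mp h).1 rfl
  obtain ⟨h1, h2⟩ := hins w q hw hqS
  have hyu : y u ∈ S := by
    by_cases h : y u = u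
    · rw [h]; exact hu
    · exact hys (mem_support.mpr fun h' => h (y.injective h'))
  obtain ⟨h3, h4⟩ := isCycle_mul_swap h1 (w := y u) (q := p)
    (by rw [h2]; exact Finset.mem_insert_of_mem hyu)
    (by rw [h2, Finset.mem_insert]; exact not_or.mpr ⟨Ne.symm hqp, hpS⟩)
  rw [h2] at h4
  have hd := glue hx hy hxs hys hxu hyw hu hw hpS hqS (Ne.symm hqp) (hne (by omega))
    (σ := c₀ * swap w q * swap (y u) p) (by rw [hxy]) h4
  have e : (c₀ * swap w q * swap (y u) p).support = c.support := by
    rw [h4, hS, Finset.insert_erase hq, Finset.insert_erase hp]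
  rw [e1, e2, hcard] at hd
  rw [hm]
  convert hd.of_cycleType (σ' := c) (by rw [h3.cycleType, hc.cycleType, e]) using 1 <;> omega

/-- Two disjoint even cycles. -/
theorem dec_even_glue {c d : Perm α} (hc : c.IsCycle) (hd : d.IsCycle) (hcd : c.Disjoint d)
    (he : Even c.support.card) (he' : Even d.support.card) :
    Dec (c * d) (c.support.card / 2 + d.support.card / 2 - 2)
      (c.support.card / 2 + d.support.card / 2 - 2) 1 := by
  classical
  obtain ⟨i, hi⟩ := he
  obtain ⟨j, hj⟩ := he'
  have hc2 := hc.two_le_card_support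
  have hd2 := hd.two_le_card_support
  have hdis : _root_.Disjoint c.support d.support := Equiv.Perm.disjoint_iff_disjoint_support.mp hcd
  obtain ⟨p, hp⟩ := Finset.card_pos.mp (show 0 < c.support.card by omega)
  obtain ⟨q, hq⟩ := Finset.card_pos.mp (show 0 < d.support.card by omega)
  have hA : Odd (c.support.erase p).card := ⟨i - 1, by rw [Finset.card_erase_of_mem hp]; omega⟩
  have hB : Odd (d.support.erase q).card := ⟨j - 1, by rw [Finset.card_erase_of_mem hq]; omega⟩
  obtain ⟨a, xa, ya, u, wa, hxya, hxa, hya, hxas, hyas, has, hu, -, hxau, -, -, ea1, ea2, hinsA⟩ :=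
    exists_block hA
  obtain ⟨b, xb, yb, ub, w, hxyb, hxb, hyb, hxbs, hybs, hbs, -, hw, -, hybw, -, eb1, eb2, hinsB⟩ :=
    exists_block hB
  set A := c.support.erase p
  set B := d.support.erase q
  have hAB : _root_.Disjoint A B :=
    hdis.mono (Finset.erase_subset _ _) (Finset.erase_subset _ _)
  have hpA : p ∉ A := Finset.notMem_erase p _
  have hqB : q ∉ B := Finset.notMem_erase q _
  have hpd : p ∉ d.support := Finset.disjoint_left.mp hdis hp
  have hqc : q ∉ c.support := Finset.disjoint_right.mp hdis hq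
  have hpB : p ∉ B := fun h => hpd (Finset.mem_of_mem_erase h)
  have hqA : q ∉ A := fun h => hqc (Finset.mem_of_mem_erase h)
  have hdisj : ∀ f g : Perm α, f.support ⊆ A → g.support ⊆ B → f.Disjoint g := fun f g hf hg =>
    Equiv.Perm.disjoint_iff_disjoint_support.mpr (hAB.mono hf hg)
  have hfixB : ∀ f : Perm α, f.support ⊆ A → ∀ z ∈ B, f z = z := fun f hf z hz =>
    notMem_support.mp fun h => Finset.disjoint_right.mp hAB hz (hf h)
  have hfixA : ∀ f : Perm α, f.support ⊆ B → ∀ z ∈ A, f z = z := fun f hf z hz =>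
    notMem_support.mp fun h => Finset.disjoint_left.mp hAB hz (hf h)
  have hyau : ya u ∈ A := by
    by_cases h : ya u = u
    · rw [h]; exact hu
    · exact hyas (mem_support.mpr fun h' => h (ya.injective h'))
  have hyu : (ya * yb) u = ya u := by rw [Equiv.Perm.mul_apply, hfixA yb hybs u hu]
  obtain ⟨ha1, ha2⟩ := hinsA (ya u) p hyau hpA
  obtain ⟨hb1, hb2⟩ := hinsB w q hw hqB
  have hsA : insert p A = c.support := Finset.insert_erase hp
  have hsB : insert q B = d.support := Finset.insert_erase hq
  have hdd : (a * swap (ya u) p).Disjoint (b * swap w q) := by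
    rw [Equiv.Perm.disjoint_iff_disjoint_support, ha2, hb2, hsA, hsB]; exact hdis
  have hσ : (a * swap (ya u) p) * (b * swap w q) =
      (xa * xb) * (ya * yb) * swap w q * swap ((ya * yb) u) p := by
    have e0 : (xa * xb) * (ya * yb) = a * b := by
      rw [mul_assoc, ← mul_assoc xb, ← (hdisj ya xb hyas hxbs).commute.eq, mul_assoc ya,
        ← mul_assoc xa, hxya, hxyb]
    have hs : (swap (ya u) p).Disjoint (b * swap w q) := by
      rw [Equiv.Perm.disjoint_iff_disjoint_support, hb2, hsB]
      refine hdis.mono_left fun z hz => ?_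
      have hne : ya u ≠ p := fun h => hpA (h ▸ hyau)
      rw [Equiv.Perm.support_swap hne, Finset.mem_insert, Finset.mem_singleton] at hz
      rcases hz with rfl | rfl
      · exact Finset.mem_of_mem_erase hyau
      · exact hp
    rw [e0, hyu, mul_assoc, hs.commute.eq]
    simp [mul_assoc]
  have hsupp : ((a * swap (ya u) p) * (b * swap w q)).support = insert p (insert q (A ∪ B)) := by
    rw [hdd.support_mul, ha2, hb2]
    ext z
    simp only [Finset.mem_union, Finset.mem_insert]
    tauto
  have hg := glue (x := xa * xb) (y := ya * yb) (S := A ∪ B)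
    (by rw [(hdisj xa xb hxas hxbs).commute.symm.mul_mul_mul_comm, hxa, hxb, one_mul]
      ) (by rw [(hdisj ya yb hyas hybs).commute.symm.mul_mul_mul_comm, hya, hyb, one_mul])
    (by rw [(hdisj xa xb hxas hxbs).support_mul]; exact Finset.union_subset_union hxas hxbs)
    (by rw [(hdisj ya yb hyas hybs).support_mul]; exact Finset.union_subset_union hyas hybs)
    (u := u) (w := w) (p := p) (q := q)
    (by rw [Equiv.Perm.mul_apply, hfixA xb hxbs u hu, hxau])
    (by rw [Equiv.Perm.mul_apply, hybw, hfixB ya hyas w hw])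
    (Finset.mem_union_left _ hu) (Finset.mem_union_right _ hw)
    (by rw [Finset.mem_union]; tauto) (by rw [Finset.mem_union]; tauto)
    (fun h => hqc (h ▸ hp))
    (by rw [hyu]; exact fun h => Finset.disjoint_left.mp hAB hyau (h ▸ hw))
    hσ hsupp
  rw [(hdisj xa xb hxas hxbs).card_support_mul, (hdisj ya yb hyas hybs).card_support_mul, ea1, ea2,
    eb1, eb2, Finset.card_erase_of_mem hp, Finset.card_erase_of_mem hq] at hg
  convert hg.of_cycleType (σ' := c * d) (by
    rw [hdd.cycleType_mul, hcd.cycleType_mul, ha1.cycleType, hb1.cycleType, hc.cycleType,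
      hd.cycleType, ha2, hb2, hsA, hsB]) using 1 <;> omega

/-- Three disjoint three-cycles, in a model on nine points. -/
theorem three_threes (h9 : 9 ≤ Fintype.card α) :
    ∃ τ : Perm α, τ.cycleType = Multiset.replicate 3 3 ∧ Dec τ 2 2 1 := by
  classical
  obtain ⟨ι⟩ := Function.Embedding.nonempty_of_card_le
    (show Fintype.card (Fin 9) ≤ Fintype.card α by simpa using h9)
  let f : Fin 9 ≃ {a : α // a ∈ Set.range ι} := Equiv.ofInjective ι ι.injective
  let c₁ : Perm (Fin 9) := swap 2 7 * swap 7 8
  let c₂ : Perm (Fin 9) := swap 0 7 * swap 7 8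
  let x : Perm (Fin 9) := swap 0 1 * swap 5 6 * c₁
  let y : Perm (Fin 9) := swap 2 3 * swap 4 6 * c₂
  have hc₁ : c₁.IsThreeCycle := by
    have := Equiv.Perm.isThreeCycle_swap_mul_swap_same (a := (7 : Fin 9)) (b := 2) (c := 8)
      (by decide) (by decide) (by decide)
    rwa [swap_comm (7 : Fin 9) 2] at this
  have hc₂ : c₂.IsThreeCycle := by
    have := Equiv.Perm.isThreeCycle_swap_mul_swap_same (a := (7 : Fin 9)) (b := 0) (c := 8)
      (by decide) (by decide) (by decide)
    rwa [swap_comm (7 : Fin 9) 0] at this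
  have key : ∀ (a b e g : Fin 9) (c : Perm (Fin 9)), a ≠ b → e ≠ g → c.IsThreeCycle →
      (swap a b).Disjoint (swap e g) → (swap a b * swap e g).Disjoint c →
      (swap a b * swap e g * c).cycleType = typ 2 1 := by
    intro a b e g c hab heg hc d1 d2
    rw [d2.cycleType_mul, d1.cycleType_mul, hc.cycleType,
      (Equiv.Perm.IsSwap.isCycle ⟨a, b, hab, rfl⟩).cycleType, support_swap hab,
      (Equiv.Perm.IsSwap.isCycle ⟨e, g, heg, rfl⟩).cycleType, support_swap heg]
    simp [typ, hab, heg]
  have hx : x.cycleType = typ 2 1 :=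
    key 0 1 5 6 c₁ (by decide) (by decide) hc₁ (by unfold Equiv.Perm.Disjoint; decide)
      (by unfold Equiv.Perm.Disjoint; decide)
  have hy : y.cycleType = typ 2 1 :=
    key 2 3 4 6 c₂ (by decide) (by decide) hc₂ (by unfold Equiv.Perm.Disjoint; decide)
      (by unfold Equiv.Perm.Disjoint; decide)
  have h3 : (x * y) ^ 3 = 1 := by
    apply Equiv.ext
    decide +kernel
  have hfull : (x * y).support = Finset.univ := by
    rw [Finset.eq_univ_iff_forall]
    simp only [Equiv.Perm.mem_support]
    decide +kernel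
  have hσ : (x * y).cycleType = Multiset.replicate 3 3 := by
    have hall : ∀ a ∈ (x * y).cycleType, a = 3 := fun a ha => by
      have h1 := (Equiv.Perm.dvd_of_mem_cycleType ha).trans (orderOf_dvd_of_pow_eq_one h3)
      have h2 := Nat.le_of_dvd (by norm_num) h1
      have := Equiv.Perm.two_le_of_mem_cycleType ha
      interval_cases a <;> simp_all
    have e := Multiset.eq_replicate_card.mpr hall
    have hs := (x * y).sum_cycleType
    rw [hfull, e, Multiset.sum_replicate, Finset.card_univ, Fintype.card_fin, smul_eq_mul] at hs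
    rw [e, show (x * y).cycleType.card = 3 by omega]
  refine ⟨(x * y).extendDomain f, by rw [cycleType_extendDomain, hσ], x.extendDomain f,
    y.extendDomain f, Equiv.Perm.extendDomain_mul f x y, ?_, ?_, by rw [cycleType_extendDomain, hx],
    by rw [cycleType_extendDomain, hy]⟩
  all_goals
    rw [support_extend_domain, support_extend_domain, Finset.map_subset_map, hfull]
    exact Finset.subset_univ _

/-! ### The decomposition -/

/-- Splitting off one cycle of given length. -/
theorem split {σ : Perm α} {k : ℕ} (hk : k ∈ σ.cycleType) :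
    ∃ c ρ : Perm α, σ = c * ρ ∧ c.Disjoint ρ ∧ c.IsCycle ∧ c.support.card = k ∧
      σ.cycleType = k ::ₘ ρ.cycleType := by
  rw [cycleType_def, Multiset.mem_map] at hk
  obtain ⟨c, hc, rfl⟩ := hk
  have hc' : c ∈ σ.cycleFactorsFinset := hc
  have hcyc : c.IsCycle := (mem_cycleFactorsFinset_iff.mp hc').1
  have hd : (σ * c⁻¹).Disjoint c := disjoint_mul_inv_of_mem_cycleFactorsFinset hc'
  refine ⟨c, σ * c⁻¹, ?_, hd.symm, hcyc, rfl, ?_⟩
  · rw [← hd.commute.eq, inv_mul_cancel_right]
  · conv_lhs => rw [show σ = c * (σ * c⁻¹) by rw [← hd.commute.eq, inv_mul_cancel_right]]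
    rw [hd.symm.cycleType_mul, hcyc.cycleType, Multiset.singleton_add]
    rfl

theorem sign_mul_cycle {c ρ : Perm α} (hc : c.IsCycle) :
    Equiv.Perm.sign (c * ρ) = -(-1) ^ c.support.card * Equiv.Perm.sign ρ := by
  rw [map_mul, hc.sign]

theorem exists_even_part {σ : Perm α} (h : Equiv.Perm.sign σ = -1) :
    ∃ k ∈ σ.cycleType, Even k := by
  by_contra hno
  push Not at hno
  have hall : ∀ n : ℕ, ∀ τ : Perm α, τ.cycleType.card = n → (∀ k ∈ τ.cycleType, ¬ Even k) →
      Equiv.Perm.sign τ = 1 := by
    intro n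
    induction n with
    | zero =>
      intro τ hτ _
      rw [Multiset.card_eq_zero, cycleType_eq_zero] at hτ
      rw [hτ, map_one]
    | succ n ih =>
      intro τ hτ hk
      obtain ⟨k, hk'⟩ := Multiset.card_pos_iff_exists_mem.mp (by omega : 0 < τ.cycleType.card)
      obtain ⟨c, ρ, rfl, -, hc, hck, ht⟩ := split hk'
      rw [sign_mul_cycle hc, ih ρ (by rw [ht, Multiset.card_cons] at hτ; omega)
        (fun a ha => hk a (by rw [ht]; exact Multiset.mem_cons_of_mem ha)), hck,
        (Nat.not_even_iff_odd.mp (hk k hk')).neg_one_pow]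
      simp
  rw [hall _ σ rfl hno] at h
  exact absurd h (by decide)

/-- Every even permutation is a product of two involutions with equally many transpositions. -/
theorem exists_balanced : ∀ n : ℕ, ∀ σ : Perm α, σ.cycleType.card = n → Equiv.Perm.sign σ = 1 →
    ∃ t, Dec σ t t 0 := by
  intro n
  induction n using Nat.strong_induction_on with
  | _ n ih =>
    intro σ hn hs
    rcases Nat.eq_zero_or_pos n with rfl | hpos
    · rw [Multiset.card_eq_zero, cycleType_eq_zero] at hn
      exact ⟨0, hn ▸ Dec.one⟩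
    obtain ⟨k, hk⟩ := Multiset.card_pos_iff_exists_mem.mp (hn ▸ hpos)
    obtain ⟨c, ρ, rfl, hd, hc, hck, ht⟩ := split hk
    rw [ht, Multiset.card_cons] at hn
    rw [sign_mul_cycle hc] at hs
    rcases Nat.even_or_odd c.support.card with he | ho
    · rw [he.neg_one_pow] at hs
      have hρ : Equiv.Perm.sign ρ = -1 := by
        rcases Int.units_eq_one_or (Equiv.Perm.sign ρ) with h | h
        · rw [h] at hs; exact absurd hs (by decide)
        · exact h
      obtain ⟨k', hk', hk'e⟩ := exists_even_part hρ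
      obtain ⟨d, ρ', rfl, hd', hdc, hdk, ht'⟩ := split hk'
      rw [ht', Multiset.card_cons] at hn
      rw [sign_mul_cycle hdc, (hdk.symm ▸ hk'e : Even d.support.card).neg_one_pow] at hρ
      obtain ⟨t, htd⟩ := ih ρ'.cycleType.card (by omega) ρ' rfl (by
        rcases Int.units_eq_one_or (Equiv.Perm.sign ρ') with h | h
        · exact h
        · rw [h] at hρ; exact absurd hρ (by decide))
      have h1 := ((dec_cycle hc).2 he).1
      have h2 := ((dec_cycle hdc).2 (hdk.symm ▸ hk'e)).2
      have h3 := h1.mul hd (h2.mul hd' htd)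
      have := hdc.two_le_card_support
      have := hc.two_le_card_support
      exact ⟨c.support.card / 2 + (d.support.card / 2 - 1 + t), by
        convert h3 using 1 <;> omega⟩
    · rw [ho.neg_one_pow] at hs
      obtain ⟨t, htd⟩ := ih ρ.cycleType.card (by omega) ρ rfl (by simpa using hs)
      exact ⟨_, ((dec_cycle hc).1 ho).mul hd htd⟩

theorem balanced_pos {σ : Perm α} {t : ℕ} (h : Dec σ t t 0) (hne : σ ≠ 1) : 1 ≤ t := by
  rcases Nat.eq_zero_or_pos t with rfl | h'
  · exact absurd h.eq_one hne
  · exact h'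

theorem exists_flex {σ : Perm α} (hn : 5 ≤ Fintype.card α) (hs : Equiv.Perm.sign σ = 1)
    (hne : σ ≠ 1) : Flex σ := by
  classical
  by_cases hA : ∃ k ∈ σ.cycleType, Odd k ∧ 5 ≤ k
  · obtain ⟨k, hk, hko, hk5⟩ := hA
    obtain ⟨c, ρ, rfl, hd, hc, hck, -⟩ := split hk
    subst hck
    rw [sign_mul_cycle hc, hko.neg_one_pow] at hs
    obtain ⟨t, ht⟩ := exists_balanced _ ρ rfl (by simpa using hs)
    rcases Nat.even_or_odd (c.support.card / 2 + t) with he | ho
    · exact (((dec_cycle hc).1 hko).mul hd ht).flex (by omega) he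
    · obtain ⟨l, hl⟩ := ho
      exact ((dec_odd_glue hc hko hk5).mul hd ht).flex (by omega) ⟨l, by omega⟩
  push Not at hA
  by_cases hB : ∃ k ∈ σ.cycleType, Even k
  · obtain ⟨k, hk, hke⟩ := hB
    obtain ⟨c, ρ, rfl, hd, hc, hck, -⟩ := split hk
    subst hck
    rw [sign_mul_cycle hc, hke.neg_one_pow] at hs
    have hρ : Equiv.Perm.sign ρ = -1 := by
      rcases Int.units_eq_one_or (Equiv.Perm.sign ρ) with h | h
      · rw [h] at hs; exact absurd hs (by decide)
      · exact h
    obtain ⟨k', hk', hk'e⟩ := exists_even_part hρ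
    obtain ⟨d, ρ', rfl, hd', hdc, hdk, -⟩ := split hk'
    subst hdk
    rw [sign_mul_cycle hdc, hk'e.neg_one_pow] at hρ
    obtain ⟨t, ht⟩ := exists_balanced _ ρ' rfl (by
      rcases Int.units_eq_one_or (Equiv.Perm.sign ρ') with h | h
      · exact h
      · rw [h] at hρ; exact absurd hρ (by decide))
    have hc2 := hc.two_le_card_support
    have hd2 := hdc.two_le_card_support
    obtain ⟨i, hi⟩ := hke
    obtain ⟨j, hj⟩ := hk'e
    have hdis := Equiv.Perm.disjoint_iff_disjoint_support.mp hd
    rw [hd'.support_mul] at hdis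
    have hcd : c.Disjoint d := Equiv.Perm.disjoint_iff_disjoint_support.mpr
      (hdis.mono_right Finset.subset_union_left)
    have hcρ : c.Disjoint ρ' := Equiv.Perm.disjoint_iff_disjoint_support.mpr
      (hdis.mono_right Finset.subset_union_right)
    have hcd' : (c * d).Disjoint ρ' := hcρ.mul_left hd'
    have hplain := ((((dec_cycle hc).2 ⟨i, hi⟩).1).mul hcd (((dec_cycle hdc).2 ⟨j, hj⟩).2)).mul hcd' ht
    have hglue := (dec_even_glue hc hdc hcd ⟨i, hi⟩ ⟨j, hj⟩).mul hcd' ht
    rw [mul_assoc] at hplain hglue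
    rcases Nat.even_or_odd (i + j - 1 + t) with he | ho
    · obtain ⟨l, hl⟩ := he
      refine Dec.flex (t := i + j - 1 + t) (r := 0) ?_ (by omega) ⟨l, hl⟩
      convert hplain using 1 <;> omega
    · obtain ⟨l, hl⟩ := ho
      by_cases h2 : 2 ≤ i + j - 2 + t
      · refine Dec.flex (t := i + j - 2 + t) (r := 1) ?_ h2 ⟨l, by omega⟩
        convert hglue using 1 <;> omega
      · -- two transpositions
        have hi1 : i = 1 := by omega
        have hj1 : j = 1 := by omega
        have ht0 : t = 0 := by omega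
        subst ht0
        rw [ht.eq_one, mul_one]
        obtain ⟨a, b, hab, hcs⟩ := card_support_eq_two.mp (show c.support.card = 2 by omega)
        obtain ⟨e, f, hef, hds⟩ := card_support_eq_two.mp (show d.support.card = 2 by omega)
        subst hcs hds
        have hdd := Equiv.Perm.disjoint_iff_disjoint_support.mp hcd
        rw [support_swap hab, support_swap hef] at hdd
        simp only [Finset.disjoint_insert_left, Finset.disjoint_singleton_left, Finset.mem_insert,
          Finset.mem_singleton, not_or] at hdd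
        obtain ⟨⟨hae, haf⟩, hbe, hbf⟩ := hdd
        have d1 : (swap a e).Disjoint (swap b f) := fun z => by
          simp only [swap_apply_def]; split_ifs <;> simp_all
        have d2 : (swap a f).Disjoint (swap b e) := fun z => by
          simp only [swap_apply_def]; split_ifs <;> simp_all
        refine ⟨swap a e * swap b f, swap a f * swap b e, 2, 0, ?_, ?_, ?_, le_rfl, even_two⟩
        · apply Equiv.ext
          intro z
          simp only [Equiv.Perm.mul_apply, swap_apply_def]
          split_ifs <;> simp_all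
        · rw [d1.cycleType_mul, (Equiv.Perm.IsSwap.isCycle ⟨a, e, hae, rfl⟩).cycleType,
            (Equiv.Perm.IsSwap.isCycle ⟨b, f, hbf, rfl⟩).cycleType, support_swap hae, support_swap hbf]
          simp [typ, hae, hbf]
        · rw [d2.cycleType_mul, (Equiv.Perm.IsSwap.isCycle ⟨a, f, haf, rfl⟩).cycleType,
            (Equiv.Perm.IsSwap.isCycle ⟨b, e, hbe, rfl⟩).cycleType, support_swap haf, support_swap hbe]
          simp [typ, haf, hbe]
  push Not at hB
  have h3 : ∀ k ∈ σ.cycleType, k = 3 := fun k hk => by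
    have := Equiv.Perm.two_le_of_mem_cycleType hk
    obtain ⟨l, hl⟩ := Nat.not_even_iff_odd.mp (hB k hk)
    have := hA k hk ⟨l, hl⟩
    omega
  obtain ⟨k, hk⟩ := Multiset.exists_mem_of_ne_zero
    (fun h => hne (Equiv.Perm.cycleType_eq_zero.mp h) : σ.cycleType ≠ 0)
  have hk3 := h3 k hk
  subst hk3
  obtain ⟨c, ρ, rfl, hd, hc, hck, htc⟩ := split hk
  have hco : Odd c.support.card := ⟨1, by omega⟩
  rw [sign_mul_cycle hc, hco.neg_one_pow] at hs
  obtain ⟨s, hsd⟩ := exists_balanced _ ρ rfl (by simpa using hs)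
  have hcdec : Dec c 1 1 0 := by
    have := (dec_cycle hc).1 hco
    rwa [hck] at this
  rcases Nat.even_or_odd s with hse | hso
  · by_cases hρ : ρ = 1
    · subst hρ
      rw [mul_one]
      obtain ⟨x, y, hxy, hxs, hys, tx, ty⟩ := hcdec
      have hxc : x.support.card = 2 := by rw [← x.sum_cycleType, tx]; simp [typ]
      have hyc : y.support.card = 2 := by rw [← y.sum_cycleType, ty]; simp [typ]
      obtain ⟨e, he, f, hf, hef⟩ := Finset.one_lt_card.mp (show 1 < c.supportᶜ.card by
        rw [Finset.card_compl, hck]; omega)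
      rw [Finset.mem_compl] at he hf
      have dz : ∀ z : Perm α, z.support ⊆ c.support → z.Disjoint (swap e f) := fun z hz => by
        rw [Equiv.Perm.disjoint_iff_disjoint_support, support_swap hef, Finset.disjoint_right]
        intro v hv hvz
        rw [Finset.mem_insert, Finset.mem_singleton] at hv
        rcases hv with rfl | rfl
        · exact he (hz hvz)
        · exact hf (hz hvz)
      refine ⟨x * swap e f, y * swap e f, 2, 0, ?_, ?_, ?_, le_rfl, even_two⟩
      · rw [mul_assoc, ← mul_assoc (swap e f), ← (dz y hys).commute.eq, mul_assoc y, swap_mul_self,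
          mul_one, hxy]
      · rw [(dz x hxs).cycleType_mul, tx, (Equiv.Perm.IsSwap.isCycle ⟨e, f, hef, rfl⟩).cycleType,
          support_swap hef]
        simp [typ, hef]
      · rw [(dz y hys).cycleType_mul, ty, (Equiv.Perm.IsSwap.isCycle ⟨e, f, hef, rfl⟩).cycleType,
          support_swap hef]
        simp [typ, hef]
    · have hρt : ρ.cycleType ≠ 0 := fun h => hρ (Equiv.Perm.cycleType_eq_zero.mp h)
      obtain ⟨k₂, hk₂⟩ := Multiset.exists_mem_of_ne_zero hρt
      have := h3 k₂ (by rw [htc]; exact Multiset.mem_cons_of_mem hk₂)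
      subst this
      obtain ⟨c₂, ρ₂, rfl, hd₂, hc₂, hck₂, htc₂⟩ := split hk₂
      have hc₂o : Odd c₂.support.card := ⟨1, by omega⟩
      have hc₂dec : Dec c₂ 1 1 0 := by
        have := (dec_cycle hc₂).1 hc₂o
        rwa [hck₂] at this
      rw [sign_mul_cycle hc₂, hc₂o.neg_one_pow] at hs
      obtain ⟨s₂, hs₂⟩ := exists_balanced _ ρ₂ rfl (by simpa using hs)
      rcases Nat.even_or_odd s₂ with he₂ | ho₂
      · obtain ⟨l, hl⟩ := he₂
        exact (hcdec.mul hd (hc₂dec.mul hd₂ hs₂)).flex (by omega) ⟨l + 1, by omega⟩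
      · have hρ₂ : ρ₂.cycleType ≠ 0 := by
          intro h
          rw [Equiv.Perm.cycleType_eq_zero] at h
          subst h
          obtain ⟨l, hl⟩ := ho₂
          obtain ⟨x, y, hxy, hxs, -, tx, -⟩ := hs₂
          have : x = 1 := Equiv.Perm.support_eq_empty_iff.mp (Finset.subset_empty.mp (by simpa using hxs))
          rw [this, Equiv.Perm.cycleType_one] at tx
          have := congrArg Multiset.card tx
          simp [typ] at this
          omega
        obtain ⟨k₃, hk₃⟩ := Multiset.exists_mem_of_ne_zero hρ₂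
        have := h3 k₃ (by rw [htc, htc₂]; exact Multiset.mem_cons_of_mem (Multiset.mem_cons_of_mem hk₃))
        subst this
        obtain ⟨c₃, ρ₃, rfl, hd₃, hc₃, hck₃, -⟩ := split hk₃
        have hc₃o : Odd c₃.support.card := ⟨1, by omega⟩
        have hc₃dec : Dec c₃ 1 1 0 := by
          have := (dec_cycle hc₃).1 hc₃o
          rwa [hck₃] at this
        rw [sign_mul_cycle hc₃, hc₃o.neg_one_pow] at hs
        obtain ⟨s₃, hs₃⟩ := exists_balanced _ ρ₃ rfl (by simpa using hs)
        rcases Nat.even_or_odd s₃ with he₃ | ho₃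
        · -- three three-cycles absorb the parity
          have hdis := Equiv.Perm.disjoint_iff_disjoint_support.mp hd
          have hdis₂ := Equiv.Perm.disjoint_iff_disjoint_support.mp hd₂
          rw [hd₂.support_mul, hd₃.support_mul] at hdis
          rw [hd₃.support_mul] at hdis₂
          simp only [Finset.disjoint_union_right] at hdis hdis₂
          have d23 : c₂.Disjoint c₃ := Equiv.Perm.disjoint_iff_disjoint_support.mpr hdis₂.1
          have d13 : c.Disjoint (c₂ * c₃) := Equiv.Perm.disjoint_iff_disjoint_support.mpr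
            (by rw [d23.support_mul]; exact Finset.disjoint_union_right.mpr ⟨hdis.1, hdis.2.1⟩)
          have dall : (c * (c₂ * c₃)).Disjoint ρ₃ :=
            Equiv.Perm.disjoint_iff_disjoint_support.mpr (by
              rw [d13.support_mul, d23.support_mul]
              exact Finset.disjoint_union_left.mpr ⟨hdis.2.2, Finset.disjoint_union_left.mpr
                ⟨hdis₂.2, Equiv.Perm.disjoint_iff_disjoint_support.mp hd₃⟩⟩)
          have h9 : 9 ≤ Fintype.card α := by
            have := (c * (c₂ * c₃)).support.card_le_univ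
            rw [d13.card_support_mul, d23.card_support_mul, hck, hck₂, hck₃] at this
            exact this
          obtain ⟨τ, hτ, hτd⟩ := three_threes h9
          have h := (hτd.of_cycleType (σ' := c * (c₂ * c₃)) (by
            rw [hτ, d13.cycleType_mul, d23.cycleType_mul, hc.cycleType, hc₂.cycleType, hc₃.cycleType,
              hck, hck₂, hck₃]
            rfl)).mul dall hs₃
          rw [mul_assoc, mul_assoc] at h
          obtain ⟨l, hl⟩ := he₃
          exact h.flex (by omega) ⟨l + 1, by omega⟩
        · obtain ⟨l, hl⟩ := ho₃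
          exact (hcdec.mul hd (hc₂dec.mul hd₂ (hc₃dec.mul hd₃ hs₃))).flex (by omega) ⟨l + 2, by omega⟩
  · obtain ⟨l, hl⟩ := hso
    exact (hcdec.mul hd hsd).flex (by omega) ⟨l + 1, by omega⟩

end CfsgLib.SpinAlt
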