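import Mathlib

/-!
# Reflections of cycles
-/

set_option autoImplicit false
set_option linter.unusedSectionVars false
set_option linter.style.haveILetI false

namespace CfsgLib.SpinAlt

open Equiv Equiv.Perm

variable {α : Type*} [Fintype α] [DecidableEq α]

/-- The cycle type of an involution. -/
theorem cycleType_of_mul_self {x : Perm α} (h : x * x = 1) :
    x.cycleType = Multiset.replicate (x.support.card / 2) 2 := by
  have hall : ∀ a ∈ x.cycleType, a = 2 := fun a ha => by
    have h1 : a ∣ orderOf x := Equiv.Perm.dvd_of_mem_cycleType ha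
    have h2 : orderOf x ∣ 2 := orderOf_dvd_of_pow_eq_one (by rw [pow_two, h])
    have h3 := Nat.le_of_dvd two_pos (h1.trans h2)
    have h4 := Equiv.Perm.two_le_of_mem_cycleType ha
    omega
  have e := Multiset.eq_replicate_card.mpr hall
  have hs := x.sum_cycleType
  rw [e, Multiset.sum_replicate, smul_eq_mul] at hs
  rw [← hs, Nat.mul_div_cancel _ two_pos]
  exact e

/-- A cycle is the product of two involutions on its support, with known numbers of fixed points. -/
theorem exists_reflection {c : Perm α} (hc : c.IsCycle) :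
    ∃ x y : Perm α, x * y = c ∧ x * x = 1 ∧ y * y = 1 ∧ x.support ⊆ c.support ∧
      y.support ⊆ c.support ∧
      (Odd c.support.card → ∃ u w, u ∈ c.support ∧ w ∈ c.support ∧ x u = u ∧ y w = w ∧
        (3 ≤ c.support.card → y u ≠ w) ∧ x.support.card = c.support.card - 1 ∧
        y.support.card = c.support.card - 1) ∧
      (Even c.support.card → x.support.card = c.support.card - 2 ∧
        y.support.card = c.support.card) := by
  classical
  obtain ⟨a, ha, hall⟩ := id hc
  have hord : orderOf c = c.support.card := hc.orderOf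
  have heq : ∀ i j : ℤ, (c ^ i) a = (c ^ j) a ↔ (c.support.card : ℤ) ∣ i - j := by
    intro i j
    rw [← hord, orderOf_dvd_iff_zpow_eq_one]
    constructor
    · intro h
      have h1 : (c ^ (i - j)) a = a := by
        rw [sub_eq_neg_add, zpow_add, Equiv.Perm.mul_apply, h, ← Equiv.Perm.mul_apply, ← zpow_add,
          neg_add_cancel, zpow_zero, Equiv.Perm.one_apply]
      apply Equiv.ext
      intro b
      by_cases hb : c b = b
      · rw [Equiv.Perm.zpow_apply_eq_self_of_apply_eq_self hb, Equiv.Perm.one_apply]
      · obtain ⟨l, rfl⟩ := hall hb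
        rw [← Equiv.Perm.mul_apply, ← zpow_add, add_comm, zpow_add, Equiv.Perm.mul_apply, h1,
          Equiv.Perm.one_apply]
    · intro h
      rw [show i = j + (i - j) by ring, zpow_add, h, mul_one]
  let f : α → α := fun b => if hb : c b ≠ b then (c ^ (-(hall hb).choose)) a else b
  have hmem : ∀ i : ℤ, c ((c ^ i) a) ≠ (c ^ i) a := fun i =>
    mem_support.mp (zpow_apply_mem_support.mpr (mem_support.mpr ha))
  have hf : ∀ i : ℤ, f ((c ^ i) a) = (c ^ (-i)) a := by
    intro i
    simp only [f]
    rw [dif_pos (hmem i), heq]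
    have h := (hall (hmem i)).choose_spec
    rw [heq] at h
    obtain ⟨l, hl⟩ := h
    exact ⟨-l, by linarith⟩
  have hf' : ∀ b, c b = b → f b = b := fun b hb => by simp only [f]; rw [dif_neg (not_not.mpr hb)]
  have hinv : Function.Involutive f := fun b => by
    by_cases hb : c b = b
    · rw [hf' b hb, hf' b hb]
    · obtain ⟨i, rfl⟩ := hall hb
      rw [hf, hf, neg_neg]
  set x : Perm α := hinv.toPerm f with hx
  have hxa : ∀ b, x b = f b := fun b => rfl
  have hxx : x * x = 1 := Equiv.ext fun b => hinv b
  set y : Perm α := x * c with hy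
  have hya : ∀ i : ℤ, y ((c ^ i) a) = (c ^ (-(i + 1))) a := fun i => by
    rw [hy, Equiv.Perm.mul_apply, ← Equiv.Perm.mul_apply c, ← zpow_one_add, hxa, hf, add_comm]
  have hy' : ∀ b, c b = b → y b = b := fun b hb => by
    rw [hy, Equiv.Perm.mul_apply, hb, hxa, hf' b hb]
  have hyy : y * y = 1 := by
    apply Equiv.ext
    intro b
    rw [Equiv.Perm.mul_apply, Equiv.Perm.one_apply]
    by_cases hb : c b = b
    · rw [hy' b hb, hy' b hb]
    · obtain ⟨i, rfl⟩ := hall hb
      rw [hya, hya]
      congr 2
      ring
  have hxs : x.support ⊆ c.support := fun b hb => by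
    rw [mem_support] at hb ⊢
    exact fun h => hb (hf' b h)
  have hys : y.support ⊆ c.support := fun b hb => by
    rw [mem_support] at hb ⊢
    exact fun h => hb (hy' b h)
  have hsupp : ∀ i : ℤ, (c ^ i) a ∈ c.support := fun i => mem_support.mpr (hmem i)
  have hex : ∀ b ∈ c.support, ∃ i : ℤ, (c ^ i) a = b := fun b hb => hall (mem_support.mp hb)
  have hxfix : ∀ i : ℤ, (c ^ i) a ∉ x.support ↔ (c.support.card : ℤ) ∣ 2 * i := fun i => by
    rw [notMem_support, hxa, hf, heq, show -i - i = -(2 * i) by ring, dvd_neg]
  have hyfix : ∀ i : ℤ, (c ^ i) a ∉ y.support ↔ (c.support.card : ℤ) ∣ 2 * i + 1 := fun i => by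
    rw [notMem_support, hya, heq, show -(i + 1) - i = -(2 * i + 1) by ring, dvd_neg]
  refine ⟨x, y, by rw [hy, ← mul_assoc, hxx, one_mul], hxx, hyy, hxs, hys, ?_, ?_⟩
  · rintro ⟨m, hm⟩
    refine ⟨a, (c ^ (m : ℤ)) a, mem_support.mpr ha, hsupp _, ?_, ?_, ?_, ?_, ?_⟩
    · simpa using (hxfix 0).mpr (by simp)
    · exact notMem_support.mp ((hyfix m).mpr (by rw [hm]; push_cast; exact dvd_rfl))
    · intro h3 h
      have h0 : y a = (c ^ (-1 : ℤ)) a := by simpa using hya 0
      rw [h0, heq, hm] at h
      obtain ⟨q, hq⟩ := h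
      push_cast at hq
      have hq1 : q < 0 := by nlinarith
      nlinarith [show (1 : ℤ) ≤ m by omega]
    · have : x.support = c.support.erase a := by
        ext b
        refine ⟨fun hb => Finset.mem_erase.mpr ⟨?_, hxs hb⟩, fun hb => ?_⟩
        · rintro rfl
          exact (hxfix 0).mpr (by simp) (by simpa using hb)
        · obtain ⟨hne, hb⟩ := Finset.mem_erase.mp hb
          obtain ⟨i, rfl⟩ := hex b hb
          by_contra hcon
          rw [hxfix] at hcon
          have hg : IsCoprime (c.support.card : ℤ) 2 := ⟨1, -(m : ℤ), by rw [hm]; push_cast; ring⟩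
          have h1 : (c.support.card : ℤ) ∣ i := hg.dvd_of_dvd_mul_left hcon
          exact hne ((heq i 0).mpr (by simpa using h1) |>.trans (by simp))
      rw [this, Finset.card_erase_of_mem (mem_support.mpr ha)]
    · have : y.support = c.support.erase ((c ^ (m : ℤ)) a) := by
        ext b
        refine ⟨fun hb => Finset.mem_erase.mpr ⟨?_, hys hb⟩, fun hb => ?_⟩
        · rintro rfl
          exact (hyfix m).mpr (by rw [hm]; push_cast; exact dvd_rfl) hb
        · obtain ⟨hne, hb⟩ := Finset.mem_erase.mp hb
          obtain ⟨i, rfl⟩ := hex b hb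
          by_contra hcon
          rw [hyfix] at hcon
          have h2 : (c.support.card : ℤ) ∣ 2 * (i - m) := by
            have := Int.dvd_sub hcon (dvd_refl (c.support.card : ℤ))
            rw [hm] at this ⊢
            push_cast at this ⊢
            rwa [show 2 * (i - (m : ℤ)) = 2 * i + 1 - (2 * m + 1) by ring]
          have hg : IsCoprime (c.support.card : ℤ) 2 := ⟨1, -(m : ℤ), by rw [hm]; push_cast; ring⟩
          exact hne ((heq i m).mpr (hg.dvd_of_dvd_mul_left h2))
      rw [this, Finset.card_erase_of_mem (hsupp _)]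
  · rintro ⟨m, hm⟩
    have hk2 : 2 ≤ c.support.card := Equiv.Perm.two_le_card_support_of_ne_one fun h => ha (by simp [h])
    constructor
    · have : x.support = (c.support.erase a).erase ((c ^ (m : ℤ)) a) := by
        ext b
        refine ⟨fun hb => ?_, fun hb => ?_⟩
        · refine Finset.mem_erase.mpr ⟨?_, Finset.mem_erase.mpr ⟨?_, hxs hb⟩⟩
          · rintro rfl
            exact (hxfix m).mpr (by rw [hm]; push_cast; exact ⟨1, by ring⟩) hb
          · rintro rfl
            exact (hxfix 0).mpr (by simp) (by simpa using hb)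
        · obtain ⟨hne, hb⟩ := Finset.mem_erase.mp hb
          obtain ⟨hne', hb⟩ := Finset.mem_erase.mp hb
          obtain ⟨i, rfl⟩ := hex b hb
          by_contra hcon
          rw [hxfix, hm] at hcon
          obtain ⟨q, hq⟩ := hcon
          push_cast at hq
          have hi : i = m * q := by linarith
          rcases Int.even_or_odd q with ⟨l, hl⟩ | ⟨l, hl⟩
          · refine hne' ((heq i 0).mpr ⟨l, ?_⟩ |>.trans (by simp))
            rw [hm]; push_cast; subst hl; linarith
          · refine hne ((heq i m).mpr ⟨l, ?_⟩)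
            rw [hm]; push_cast; subst hl; linarith
      rw [this, Finset.card_erase_of_mem, Finset.card_erase_of_mem (mem_support.mpr ha)]
      · omega
      · refine Finset.mem_erase.mpr ⟨fun h => ?_, hsupp _⟩
        have h' : (c.support.card : ℤ) ∣ (m : ℤ) := by
          have := (heq m 0).mp (h.trans (by simp))
          simpa using this
        have := Nat.le_of_dvd (by omega) (Int.natCast_dvd_natCast.mp h')
        omega
    · have : y.support = c.support := by
        refine le_antisymm hys fun b hb => ?_
        obtain ⟨i, rfl⟩ := hex b hb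
        by_contra hcon
        rw [hyfix, hm] at hcon
        obtain ⟨q, hq⟩ := hcon
        push_cast at hq
        have hq' : (2 : ℤ) * ((m : ℤ) * q - i) = 1 := by linarith
        omega
      rw [this]

/-- Inserting a fixed point into a cycle. -/
theorem isCycle_mul_swap {c : Perm α} (hc : c.IsCycle) {w q : α} (hw : w ∈ c.support)
    (hq : q ∉ c.support) :
    (c * swap w q).IsCycle ∧ (c * swap w q).support = insert q c.support := by
  classical
  have hwne : c w ≠ w := mem_support.mp hw
  have hqfix : c q = q := notMem_support.mp hq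
  have hwq : w ≠ q := fun h => hq (h ▸ hw)
  set d := c * swap w q with hd
  have hdw : d w = q := by rw [hd, Equiv.Perm.mul_apply, swap_apply_left, hqfix]
  have hdq : d q = c w := by rw [hd, Equiv.Perm.mul_apply, swap_apply_right]
  have hdo : ∀ b, b ≠ w → b ≠ q → d b = c b := fun b h1 h2 => by
    rw [hd, Equiv.Perm.mul_apply, swap_apply_of_ne_of_ne h1 h2]
  have hsupp : d.support = insert q c.support := by
    ext b
    rw [mem_support, Finset.mem_insert, mem_support]
    rcases eq_or_ne b w with rfl | h1
    · rw [hdw]; exact iff_of_true hwq.symm (Or.inr hwne)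
    rcases eq_or_ne b q with rfl | h2
    · rw [hdq]
      refine iff_of_true (fun h => ?_) (Or.inl rfl)
      exact hwq (c.injective (h.trans hqfix.symm))
    · rw [hdo b h1 h2]; simp [h2]
  refine ⟨⟨w, by rw [hdw]; exact hwq.symm, fun b hb => ?_⟩, hsupp⟩
  have hstep : ∀ i : ℕ, SameCycle d w ((c ^ i) w) := by
    intro i
    induction i with
    | zero => exact SameCycle.refl _ _
    | succ i ih =>
      rw [pow_succ', Equiv.Perm.mul_apply]
      rcases eq_or_ne ((c ^ i) w) w with h1 | h1
      · rw [h1, ← hdq, ← hdw, sameCycle_apply_right, sameCycle_apply_right]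
      · have h2 : (c ^ i) w ≠ q := fun h => hq (h ▸ pow_apply_mem_support.mpr hw)
        rw [← hdo _ h1 h2, sameCycle_apply_right]
        exact ih
  have hb' : b ∈ d.support := mem_support.mpr hb
  rw [hsupp, Finset.mem_insert] at hb'
  rcases hb' with rfl | hb'
  · rw [← hdw, sameCycle_apply_right]
  · obtain ⟨i, rfl⟩ := hc.exists_pow_eq hwne (mem_support.mp hb')
    exact hstep i

end CfsgLib.SpinAlt
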